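import Mathlib.NumberTheory.GaussSum
import Mathlib.FieldTheory.Finite.GaloisField
import Mathlib.RingTheory.Norm.Transitivity
import Mathlib.RingTheory.Trace.Basic
import Mathlib.RingTheory.Polynomial.UniqueFactorization

/-!
# The Hasse–Davenport lifting relation
-/

set_option autoImplicit false
set_option linter.style.haveILetI false

noncomputable section

open Polynomial

namespace Groth.Agent.H23HD

variable {F : Type} [Field F] [Fintype F] {R : Type} [CommRing R] (χ : MulChar F R) (ψ : AddChar F R)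

/-- The multiplicative function on monic polynomials. -/
def lam (f : F[X]) : R := χ ((-1) ^ f.natDegree * f.coeff 0) * ψ (-f.nextCoeff)

theorem lam_one : lam χ ψ 1 = 1 := by simp [lam, nextCoeff]

theorem lam_mul {f g : F[X]} (hf : f.Monic) (hg : g.Monic) : lam χ ψ (f * g) = lam χ ψ f * lam χ ψ g := by
  rw [lam, hf.natDegree_mul hg, mul_coeff_zero, hf.nextCoeff_mul hg, neg_add, AddChar.map_add_eq_mul, pow_add,
    show ∀ a b c d : F, a * b * (c * d) = a * c * (b * d) from fun a b c d => by ring, map_mul, lam, lam]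
  ring

theorem lam_pow {f : F[X]} (hf : f.Monic) (j : ℕ) : lam χ ψ (f ^ j) = lam χ ψ f ^ j := by
  induction j with
  | zero => simp [lam_one]
  | succ j ih => rw [pow_succ, pow_succ, lam_mul χ ψ (hf.pow j) hf, ih]

section

attribute [local instance] Classical.propDecidable

/-- The monic polynomials of degree `d`. -/
def monicsOfDegree (d : ℕ) : Finset F[X] :=
  (Finset.univ : Finset (Fin d → F)).image fun c => X ^ d + ∑ i : Fin d, C (c i) * X ^ (i : ℕ)

theorem mem_monics {d : ℕ} {f : F[X]} : f ∈ monicsOfDegree d ↔ f.Monic ∧ f.natDegree = d := by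
  constructor
  · intro h
    obtain ⟨c, -, rfl⟩ := Finset.mem_image.1 h
    have hlt : (∑ i : Fin d, C (c i) * X ^ (i : ℕ)).degree < (d : WithBot ℕ) := degree_sum_fin_lt c
    refine ⟨monic_X_pow_add hlt, natDegree_eq_of_degree_eq_some ?_⟩
    rw [degree_add_eq_left_of_degree_lt (by rwa [degree_X_pow]), degree_X_pow]
  · rintro ⟨hm, hd⟩
    refine Finset.mem_image.2 ⟨fun i => f.coeff i, Finset.mem_univ _, ?_⟩
    subst hd
    conv_rhs => rw [hm.as_sum]
    rw [Finset.sum_range]

/-- Sum of `lam` over monic polynomials of degree `d`. -/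
def S (d : ℕ) : R := ∑ f ∈ monicsOfDegree (F := F) d, lam χ ψ f

theorem S_zero : S χ ψ 0 = 1 := by
  have h : monicsOfDegree (F := F) 0 = {1} := by
    ext f
    rw [mem_monics, Finset.mem_singleton]
    refine ⟨fun ⟨hm, hd⟩ => hm.natDegree_eq_zero.1 hd, fun h => ?_⟩
    subst h
    exact ⟨monic_one, natDegree_one⟩
  rw [S, h, Finset.sum_singleton, lam_one]

theorem S_one : S χ ψ 1 = ∑ x : F, χ x * ψ x := by
  refine (Finset.sum_bij (fun (x : F) _ => X - C x) (fun x _ => mem_monics.2 ⟨monic_X_sub_C x, natDegree_X_sub_C x⟩)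
    (fun a _ b _ h => C_injective (sub_right_injective h)) (fun f hf => ?_) (fun x _ => ?_)).symm
  · obtain ⟨hm, hd⟩ := mem_monics.1 hf
    refine ⟨-f.coeff 0, Finset.mem_univ _, ?_⟩
    rw [C_neg, sub_neg_eq_add]
    exact (hm.eq_X_add_C hd).symm
  · simp [lam, nextCoeff_X_sub_C]

theorem S_eq_zero [IsDomain R] (hψ : ψ ≠ 1) {d : ℕ} (hd : 2 ≤ d) : S χ ψ d = 0 := by
  obtain ⟨a, ha⟩ := AddChar.ne_one_iff.1 hψ
  let t : F[X] ≃ F[X] := Equiv.addRight (C (-a) * X ^ (d - 1))
  have hdeg : (C (-a) * X ^ (d - 1)).degree < (d : WithBot ℕ) :=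
    (degree_C_mul_X_pow_le _ _).trans_lt (by exact_mod_cast Nat.sub_lt (by omega) one_pos)
  have key : ∀ f ∈ monicsOfDegree (F := F) d, t f ∈ monicsOfDegree (F := F) d ∧ lam χ ψ (t f) = ψ a * lam χ ψ f := by
    intro f hf
    obtain ⟨hm, hfd⟩ := mem_monics.1 hf
    have hfd' : f.degree = (d : WithBot ℕ) := by rw [degree_eq_natDegree hm.ne_zero, hfd]
    have hnd : (t f).natDegree = d := by
      refine natDegree_eq_of_degree_eq_some ?_
      show (f + _).degree = _
      rw [degree_add_eq_left_of_degree_lt (by rwa [hfd']), hfd']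
    refine ⟨mem_monics.2 ⟨hm.add_of_left (by rwa [hfd']), hnd⟩, ?_⟩
    have hn : (t f).nextCoeff = f.nextCoeff + -a := by
      rw [nextCoeff_of_natDegree_pos (by omega), nextCoeff_of_natDegree_pos (by omega), hnd, hfd]
      show (f + C (-a) * X ^ (d - 1)).coeff _ = _
      rw [coeff_add, coeff_C_mul_X_pow, if_pos rfl]
    have h0 : (t f).coeff 0 = f.coeff 0 := by
      show (f + C (-a) * X ^ (d - 1)).coeff _ = _
      rw [coeff_add, coeff_C_mul_X_pow, if_neg (by omega), add_zero]
    rw [lam, lam, hnd, hfd, hn, h0, neg_add, neg_neg, AddChar.map_add_eq_mul]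
    ring
  have h : S χ ψ d = ψ a * S χ ψ d := by
    rw [S, Finset.mul_sum]
    have himg : (monicsOfDegree (F := F) d).map t.toEmbedding = monicsOfDegree d := by
      refine Finset.eq_of_subset_of_card_le (fun g hg => ?_) (Finset.card_map _).ge
      obtain ⟨f, hf, rfl⟩ := Finset.mem_map.1 hg
      exact (key f hf).1
    conv_lhs => rw [← himg, Finset.sum_map]
    exact Finset.sum_congr rfl fun f hf => (key f hf).2
  by_contra hne
  exact ha (mul_right_cancel₀ hne (by rw [one_mul]; exact h.symm))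

/-- Monic irreducible polynomials of degree at most `n`. -/
def primes (n : ℕ) : Finset F[X] := by
  exact ((Finset.Icc 1 n).biUnion fun d => monicsOfDegree d).filter Irreducible

theorem mem_primes {n : ℕ} {P : F[X]} :
    P ∈ primes n ↔ P.Monic ∧ Irreducible P ∧ P.natDegree ≤ n := by
  simp only [primes, Finset.mem_filter, Finset.mem_biUnion, Finset.mem_Icc, mem_monics]
  constructor
  · rintro ⟨⟨d, ⟨-, hd⟩, hm, rfl⟩, hi⟩
    exact ⟨hm, hi, hd⟩
  · rintro ⟨hm, hi, hd⟩
    exact ⟨⟨_, ⟨hi.natDegree_pos, hd⟩, hm, rfl⟩, hi⟩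

theorem prod_normalizedFactors_eq {f : F[X]} (hf : f.Monic) :
    (UniqueFactorizationMonoid.normalizedFactors f).prod = f := by
  have hm : (UniqueFactorizationMonoid.normalizedFactors f).prod.Monic := by
    rw [← Multiset.map_id' (UniqueFactorizationMonoid.normalizedFactors f)]
    refine monic_multiset_prod_of_monic _ _ fun P hP => ?_
    rw [← UniqueFactorizationMonoid.normalize_normalized_factor P hP]
    exact monic_normalize (UniqueFactorizationMonoid.irreducible_of_normalized_factor P hP).ne_zero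
  exact eq_of_monic_of_associated hm hf (UniqueFactorizationMonoid.prod_normalizedFactors hf.ne_zero)

theorem natDegree_eq_sum {n : ℕ} {f : F[X]} (hf : f.Monic) (hd : f.natDegree = n) :
    ∑ P ∈ primes n, ∑ _j ∈ (Finset.Icc 1 n).filter (fun j => P ^ j ∣ f), P.natDegree = n := by
  let M := UniqueFactorizationMonoid.normalizedFactors f
  have hmem : ∀ P ∈ M, P ∈ primes n := fun P hP => by
    have hi := UniqueFactorizationMonoid.irreducible_of_normalized_factor P hP
    refine mem_primes.2 ⟨?_, hi, ?_⟩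
    · rw [← UniqueFactorizationMonoid.normalize_normalized_factor P hP]
      exact monic_normalize hi.ne_zero
    · rw [← hd]
      exact natDegree_le_of_dvd (UniqueFactorizationMonoid.dvd_of_mem_normalizedFactors hP) hf.ne_zero
  have hdeg : (M.map natDegree).sum = n := by
    rw [← natDegree_multiset_prod M (UniqueFactorizationMonoid.zero_notMem_normalizedFactors f),
      prod_normalizedFactors_eq hf, hd]
  have hcount : ∀ P ∈ primes (F := F) n, ((Finset.Icc 1 n).filter fun j => P ^ j ∣ f).card = M.count P := by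
    intro P hP
    obtain ⟨hPm, hPi, -⟩ := mem_primes.1 hP
    have hiff : ∀ j : ℕ, P ^ j ∣ f ↔ j ≤ M.count P := fun j => by
      rw [pow_dvd_iff_le_emultiplicity,
        UniqueFactorizationMonoid.le_emultiplicity_iff_replicate_le_normalizedFactors hPi hf.ne_zero,
        ← Multiset.le_count_iff_replicate_le, hPm.normalize_eq_self]
    have hle : M.count P ≤ n := by
      have h1 := natDegree_le_of_dvd ((hiff _).2 le_rfl) hf.ne_zero
      rw [natDegree_pow, hd] at h1
      exact (Nat.le_mul_of_pos_right _ hPi.natDegree_pos).trans h1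
    have hset : (Finset.Icc 1 n).filter (fun j => P ^ j ∣ f) = Finset.Icc 1 (M.count P) := by
      ext j
      simp only [Finset.mem_filter, Finset.mem_Icc, hiff]
      omega
    rw [hset, Nat.card_Icc, Nat.add_sub_cancel]
  calc ∑ P ∈ primes n, ∑ _j ∈ (Finset.Icc 1 n).filter (fun j => P ^ j ∣ f), P.natDegree
      = ∑ P ∈ primes n, M.count P • P.natDegree := Finset.sum_congr rfl fun P hP => by
        rw [Finset.sum_const, hcount P hP]
    _ = ∑ P ∈ M.toFinset, M.count P • P.natDegree := by
        refine (Finset.sum_subset (fun P hP => hmem P (Multiset.mem_toFinset.1 hP)) fun P _ hP => ?_).symm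
        rw [Multiset.count_eq_zero.2 fun h => hP (Multiset.mem_toFinset.2 h), zero_smul]
    _ = (M.map natDegree).sum := (Finset.sum_multiset_map_count M natDegree).symm
    _ = n := hdeg

/-- The sum attached to degree `m`. -/
def N (m : ℕ) : R :=
  ∑ P ∈ (primes (F := F) m).filter (fun P => P.natDegree ∣ m), (P.natDegree : R) * lam χ ψ P ^ (m / P.natDegree)

theorem sum_dvd_eq {n j : ℕ} {P : F[X]} (hP : P.Monic) (hle : j * P.natDegree ≤ n) :
    ∑ f ∈ (monicsOfDegree n).filter (fun f => P ^ j ∣ f), lam χ ψ f =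
      lam χ ψ P ^ j * S χ ψ (n - j * P.natDegree) := by
  rw [S, Finset.mul_sum]
  symm
  refine Finset.sum_bij (fun g _ => P ^ j * g) (fun g hg => ?_) (fun a _ b _ h => mul_left_cancel₀ (hP.pow j).ne_zero h)
    (fun f hf => ?_) (fun g hg => ?_)
  · obtain ⟨hm, hd⟩ := mem_monics.1 hg
    refine Finset.mem_filter.2 ⟨mem_monics.2 ⟨(hP.pow j).mul hm, ?_⟩, dvd_mul_right _ _⟩
    rw [(hP.pow j).natDegree_mul hm, natDegree_pow, hd]
    omega
  · obtain ⟨hf', g, rfl⟩ := Finset.mem_filter.1 hf
    obtain ⟨hm, hd⟩ := mem_monics.1 hf'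
    have hg : g.Monic := (hP.pow j).of_mul_monic_left hm
    refine ⟨g, mem_monics.2 ⟨hg, ?_⟩, rfl⟩
    rw [(hP.pow j).natDegree_mul hg, natDegree_pow] at hd
    omega
  · rw [lam_mul χ ψ (hP.pow j) (mem_monics.1 hg).1, lam_pow χ ψ hP]

theorem newton (n : ℕ) :
    (n : R) * S χ ψ n = ∑ m ∈ Finset.Icc 1 n, N χ ψ m * S χ ψ (n - m) := by
  have h1 : (n : R) * S χ ψ n = ∑ P ∈ primes (F := F) n, ∑ j ∈ Finset.Icc 1 n,
      (P.natDegree : R) * ∑ f ∈ (monicsOfDegree n).filter (fun f => P ^ j ∣ f), lam χ ψ f := by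
    have h0 : ∀ f ∈ monicsOfDegree (F := F) n, (n : R) * lam χ ψ f =
        ∑ P ∈ primes n, ∑ j ∈ Finset.Icc 1 n, if P ^ j ∣ f then (P.natDegree : R) * lam χ ψ f else 0 := by
      intro f hf
      obtain ⟨hm, hd⟩ := mem_monics.1 hf
      conv_lhs => rw [← natDegree_eq_sum hm hd, Nat.cast_sum, Finset.sum_mul]
      refine Finset.sum_congr rfl fun P _ => ?_
      rw [Nat.cast_sum, Finset.sum_mul, Finset.sum_filter]
    rw [S, Finset.mul_sum, Finset.sum_congr rfl h0, Finset.sum_comm]
    refine Finset.sum_congr rfl fun P _ => ?_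
    rw [Finset.sum_comm]
    refine Finset.sum_congr rfl fun j _ => ?_
    rw [Finset.mul_sum, Finset.sum_filter]
  have h2 : ∀ P ∈ primes (F := F) n, ∑ j ∈ Finset.Icc 1 n,
      (P.natDegree : R) * ∑ f ∈ (monicsOfDegree n).filter (fun f => P ^ j ∣ f), lam χ ψ f =
      ∑ m ∈ (Finset.Icc 1 n).filter (fun m => P.natDegree ∣ m),
        (P.natDegree : R) * lam χ ψ P ^ (m / P.natDegree) * S χ ψ (n - m) := by
    intro P hP
    obtain ⟨hPm, hPi, -⟩ := mem_primes.1 hP
    have hpos := hPi.natDegree_pos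
    have hz : ∀ j ∈ Finset.Icc 1 n, j ∉ (Finset.Icc 1 n).filter (fun j => j * P.natDegree ≤ n) →
        (P.natDegree : R) * ∑ f ∈ (monicsOfDegree n).filter (fun f => P ^ j ∣ f), lam χ ψ f = 0 := by
      intro j hj hj'
      rw [Finset.filter_eq_empty_iff.2 fun f hf hdvd => hj' (Finset.mem_filter.2 ⟨hj, ?_⟩), Finset.sum_empty, mul_zero]
      obtain ⟨hm, hd⟩ := mem_monics.1 hf
      rw [← natDegree_pow, ← hd]
      exact natDegree_le_of_dvd hdvd hm.ne_zero
    rw [← Finset.sum_subset (Finset.filter_subset _ _) hz]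
    refine Finset.sum_bij' (fun j _ => j * P.natDegree) (fun m _ => m / P.natDegree) (fun j hj => ?_) (fun m hm => ?_)
      (fun j _ => Nat.mul_div_cancel _ hpos) (fun m hm => Nat.div_mul_cancel (Finset.mem_filter.1 hm).2) (fun j hj => ?_)
    · obtain ⟨h, hle⟩ := Finset.mem_filter.1 hj
      exact Finset.mem_filter.2 ⟨Finset.mem_Icc.2 ⟨Nat.mul_pos (Finset.mem_Icc.1 h).1 hpos, hle⟩, dvd_mul_left _ _⟩
    · obtain ⟨h, hdvd⟩ := Finset.mem_filter.1 hm
      refine Finset.mem_filter.2 ⟨Finset.mem_Icc.2 ⟨Nat.div_pos (Nat.le_of_dvd (Finset.mem_Icc.1 h).1 hdvd) hpos,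
        (Nat.div_le_self _ _).trans (Finset.mem_Icc.1 h).2⟩, ?_⟩
      rw [Nat.div_mul_cancel hdvd]
      exact (Finset.mem_Icc.1 h).2
    · rw [sum_dvd_eq χ ψ hPm (Finset.mem_filter.1 hj).2, Nat.mul_div_cancel _ hpos, mul_assoc]
  rw [h1, Finset.sum_congr rfl h2]
  simp_rw [N, Finset.sum_mul, Finset.sum_filter]
  rw [Finset.sum_comm]
  refine Finset.sum_congr rfl fun m hm => ?_
  rw [Finset.mem_Icc] at hm
  refine (Finset.sum_subset (fun P hP => ?_) fun P _ hP => ?_).symm
  · obtain ⟨a, b, c⟩ := mem_primes.1 hP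
    exact mem_primes.2 ⟨a, b, c.trans hm.2⟩
  · refine if_neg fun hdvd => hP ?_
    rename_i hPn
    obtain ⟨a, b, -⟩ := mem_primes.1 hPn
    exact mem_primes.2 ⟨a, b, Nat.le_of_dvd hm.1 hdvd⟩

theorem N_eq [IsDomain R] (hψ : ψ ≠ 1) {n : ℕ} (hn : 1 ≤ n) : -N χ ψ n = (-(∑ x : F, χ x * ψ x)) ^ n := by
  induction n, hn using Nat.le_induction with
  | base =>
    have h := newton χ ψ 1
    rw [Finset.Icc_self, Finset.sum_singleton, Nat.sub_self, S_zero, mul_one, Nat.cast_one, one_mul, S_one] at h
    rw [pow_one, h]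
  | succ n hn ih =>
    have h := newton χ ψ (n + 1)
    rw [S_eq_zero χ ψ hψ (by omega), mul_zero] at h
    have hsub : ({n, n + 1} : Finset ℕ) ⊆ Finset.Icc 1 (n + 1) := by
      intro x hx
      simp only [Finset.mem_insert, Finset.mem_singleton] at hx
      simp only [Finset.mem_Icc]
      omega
    rw [← Finset.sum_subset hsub fun m hm hm' => by
      simp only [Finset.mem_Icc] at hm
      simp only [Finset.mem_insert, Finset.mem_singleton] at hm'
      rw [S_eq_zero χ ψ hψ (by omega), mul_zero]] at h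
    rw [Finset.sum_pair (by omega), Nat.sub_self, show n + 1 - n = 1 by omega, S_zero, S_one, mul_one] at h
    rw [pow_succ, ← ih]
    linear_combination h

variable {F' : Type} [Field F'] [Fintype F'] [Algebra F F']

theorem lam_minpoly (x : F') :
    lam χ ψ (minpoly F x) ^ (Module.finrank F F' / (minpoly F x).natDegree) =
      χ (Algebra.norm F x) * ψ (Algebra.trace F F' x) := by
  haveI : FiniteDimensional F F' := Module.Finite.of_finite
  have hx : IsIntegral F x := IsIntegral.of_finite F x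
  have hd : Module.finrank F (IntermediateField.adjoin F {x}) = (minpoly F x).natDegree :=
    IntermediateField.adjoin.finrank hx
  have hr : Module.finrank F F' / (minpoly F x).natDegree = Module.finrank (IntermediateField.adjoin F {x}) F' := by
    rw [← hd, ← Module.finrank_mul_finrank F (IntermediateField.adjoin F {x}) F',
      Nat.mul_div_cancel_left _ Module.finrank_pos]
  have hN : Algebra.norm F (IntermediateField.AdjoinSimple.gen F x) =
      (-1) ^ (minpoly F x).natDegree * (minpoly F x).coeff 0 := by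
    have h := Algebra.PowerBasis.norm_gen_eq_coeff_zero_minpoly (IntermediateField.adjoin.powerBasis hx)
    rw [IntermediateField.adjoin.powerBasis_gen, IntermediateField.minpoly_gen,
      IntermediateField.adjoin.powerBasis_dim] at h
    exact h
  rw [hr, Algebra.norm_eq_norm_adjoin F x, hN, map_pow, trace_eq_trace_adjoin F x, trace_adjoinSimpleGen hx,
    AddChar.map_nsmul_eq_pow, lam, mul_pow]

theorem card_fiber {P : F[X]} (hP : P.Monic) (hi : Irreducible P) (hdvd : P.natDegree ∣ Module.finrank F F') :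
    ((Finset.univ : Finset F').filter fun x => minpoly F x = P).card = P.natDegree := by
  haveI : FiniteDimensional F F' := Module.Finite.of_finite
  haveI := Fact.mk hi
  have hsep : P.Separable := PerfectField.separable_of_irreducible hi
  have hsplit : (P.map (algebraMap F F')).Splits := by
    haveI : Normal F F' := inferInstance
    haveI : FiniteDimensional F (AdjoinRoot P) := (AdjoinRoot.powerBasis hi.ne_zero).finite
    obtain ⟨f⟩ := FiniteField.nonempty_algHom_of_finrank_dvd (F := F) (K := AdjoinRoot P) (L := F')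
      (by rwa [(AdjoinRoot.powerBasis hi.ne_zero).finrank, AdjoinRoot.powerBasis_dim])
    have h0 : aeval (f (AdjoinRoot.root P)) P = 0 := by
      rw [aeval_algHom_apply, AdjoinRoot.aeval_eq, AdjoinRoot.mk_self, map_zero]
    rw [minpoly.eq_of_irreducible_of_monic hi h0 hP]
    exact Normal.splits inferInstance _
  rw [← card_rootSet_eq_natDegree hsep hsplit, ← Fintype.card_coe]
  refine Fintype.card_congr (Equiv.subtypeEquivRight fun x => ?_)
  rw [Finset.mem_filter, mem_rootSet]
  exact ⟨fun ⟨_, h⟩ => ⟨hi.ne_zero, by rw [← h]; exact minpoly.aeval F x⟩,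
    fun ⟨_, h⟩ => ⟨Finset.mem_univ _, (minpoly.eq_of_irreducible_of_monic hi h hP).symm⟩⟩

theorem hasseDavenport [IsDomain R] (hψ : ψ ≠ 1) :
    -(∑ x : F', χ (Algebra.norm F x) * ψ (Algebra.trace F F' x)) =
      (-(∑ x : F, χ x * ψ x)) ^ Module.finrank F F' := by
  haveI : FiniteDimensional F F' := Module.Finite.of_finite
  rw [← N_eq χ ψ hψ Module.finrank_pos, neg_inj]
  have hmem : ∀ x ∈ (Finset.univ : Finset F'), minpoly F x ∈
      (primes (F := F) (Module.finrank F F')).filter (fun P => P.natDegree ∣ Module.finrank F F') := fun x _ => by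
    have hx : IsIntegral F x := IsIntegral.of_finite F x
    have hd := minpoly.degree_dvd hx
    exact Finset.mem_filter.2 ⟨mem_primes.2 ⟨minpoly.monic hx, minpoly.irreducible hx,
      Nat.le_of_dvd Module.finrank_pos hd⟩, hd⟩
  rw [N, ← Finset.sum_fiberwise_of_maps_to hmem]
  refine Finset.sum_congr rfl fun P hP => ?_
  obtain ⟨hP', hdvd⟩ := Finset.mem_filter.1 hP
  obtain ⟨hm, hi, -⟩ := mem_primes.1 hP'
  rw [Finset.sum_congr rfl fun x hx => ?_, Finset.sum_const, card_fiber hm hi hdvd, nsmul_eq_mul]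
  rw [← lam_minpoly χ ψ x, (Finset.mem_filter.1 hx).2]

end

end Groth.Agent.H23HD
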